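import Mathlib

set_option autoImplicit false

/-!
Inverse-closed additive subgroups of a finite field containing `1` are subfields (Hua's identity).
-/

namespace Cfsg.Agent.Lib.Helper18.SL2

variable {F : Type*} [Field F]

theorem hua_identity (a b : F) (ha : a ≠ 0) (hb : b ≠ 0) (hab : a * b ≠ 1) :
    a - (a⁻¹ + (b⁻¹ - a)⁻¹)⁻¹ = a * b * a := by
  have h1 : 1 - a * b ≠ 0 := fun h => hab (by linear_combination -h)
  have h2 : b⁻¹ - a = (1 - a * b) / b := by field_simp
  have h3 : a⁻¹ + (b⁻¹ - a)⁻¹ = 1 / (a * (1 - a * b)) := by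
    rw [h2]
    field_simp
    ring
  rw [h3]
  field_simp
  ring

theorem mul_mul_mem_of_inv_closed (A : AddSubgroup F) (hinv : ∀ x ∈ A, x⁻¹ ∈ A)
    {a b : F} (ha : a ∈ A) (hb : b ∈ A) : a * b * a ∈ A := by
  by_cases ha0 : a = 0
  · simp [ha0, A.zero_mem]
  by_cases hb0 : b = 0
  · simp [hb0, A.zero_mem]
  by_cases hab : a * b = 1
  · rw [hab, one_mul]; exact ha
  rw [← hua_identity a b ha0 hb0 hab]
  exact A.sub_mem ha (hinv _ (A.add_mem (hinv _ ha) (hinv _ (A.sub_mem (hinv _ hb) ha))))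

theorem mul_mem_of_inv_closed [Finite F] (A : AddSubgroup F) (h1 : (1 : F) ∈ A)
    (hinv : ∀ x ∈ A, x⁻¹ ∈ A) {a b : F} (ha : a ∈ A) (hb : b ∈ A) : a * b ∈ A := by
  have hsq : ∀ x ∈ A, x * x ∈ A := by
    intro x hx
    have := mul_mul_mem_of_inv_closed A hinv hx h1
    rwa [mul_one] at this
  by_cases h2 : (2 : F) = 0
  · -- characteristic two: squaring is onto `A`
    have hinj : Function.Injective (fun x : A => (⟨x.1 * x.1, hsq _ x.2⟩ : A)) := by
      intro x y hxy
      have h : x.1 * x.1 = y.1 * y.1 := congrArg Subtype.val hxy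
      have h3 : (x.1 - y.1) * (x.1 - y.1) = 0 := by
        linear_combination h + (y.1 * y.1 - x.1 * y.1) * h2
      have h4 : x.1 - y.1 = 0 := by
        rcases mul_eq_zero.1 h3 with h | h <;> exact h
      exact Subtype.ext (sub_eq_zero.1 h4)
    have hsurj := Finite.surjective_of_injective hinj
    obtain ⟨c, hc⟩ := hsurj ⟨a, ha⟩
    have hc' : c.1 * c.1 = a := congrArg Subtype.val hc
    have := mul_mul_mem_of_inv_closed A hinv c.2 hb
    have h5 : c.1 * b * c.1 = a * b := by rw [← hc']; ring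
    rwa [h5] at this
  · have htwo : (2 : F) ∈ A := by
      have := A.add_mem h1 h1
      norm_num at this
      exact this
    have hh : (2 : F)⁻¹ ∈ A := hinv _ htwo
    have hquarter : ∀ z ∈ A, (2 : F)⁻¹ * z * (2 : F)⁻¹ ∈ A := fun z hz =>
      mul_mul_mem_of_inv_closed A hinv hh hz
    have hhalf : ∀ z ∈ A, z / 2 ∈ A := by
      intro z hz
      have := A.add_mem (hquarter z hz) (hquarter z hz)
      have h6 : (2 : F)⁻¹ * z * (2 : F)⁻¹ + (2 : F)⁻¹ * z * (2 : F)⁻¹ = z / 2 := by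
        field_simp
        ring
      rwa [h6] at this
    have h7 : (a + b) * (a + b) - a * a - b * b ∈ A :=
      A.sub_mem (A.sub_mem (hsq _ (A.add_mem ha hb)) (hsq _ ha)) (hsq _ hb)
    have h8 := hhalf _ h7
    have h9 : ((a + b) * (a + b) - a * a - b * b) / 2 = a * b := by
      field_simp
      ring
    rwa [h9] at h8

/-- An inverse-closed additive subgroup of a finite field containing `1` is a subfield. -/
def subfieldOfInvClosed [Finite F] (A : AddSubgroup F) (h1 : (1 : F) ∈ A)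
    (hinv : ∀ x ∈ A, x⁻¹ ∈ A) : Subfield F where
  carrier := A
  mul_mem' ha hb := mul_mem_of_inv_closed A h1 hinv ha hb
  one_mem' := h1
  add_mem' ha hb := A.add_mem ha hb
  zero_mem' := A.zero_mem
  neg_mem' ha := A.neg_mem ha
  inv_mem' x hx := hinv x hx

theorem mem_subfieldOfInvClosed [Finite F] (A : AddSubgroup F) (h1 : (1 : F) ∈ A)
    (hinv : ∀ x ∈ A, x⁻¹ ∈ A) (x : F) : x ∈ subfieldOfInvClosed A h1 hinv ↔ x ∈ A := Iff.rfl

end Cfsg.Agent.Lib.Helper18.SL2
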