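import Mathlib

set_option autoImplicit false

/-!
`PGL₂(K) → PGL₂(F)` for a field extension, the image of `PSL₂(K)` in `PGL₂(K)`.
-/

namespace Cfsg.Agent.Lib.Helper18.SL2

open Matrix MatrixGroups

variable {F : Type*} [Field F]

theorem pgl_map_injective {K : Type*} [Field K] (f : K →+* F) :
    Function.Injective (ProjGenLinGroup.map (n := Fin 2) f) := by
  rw [injective_iff_map_eq_one]
  intro x hx
  induction x using Matrix.ProjGenLinGroup.induction_on with | mk g =>
  rw [ProjGenLinGroup.map_mk, ProjGenLinGroup.mk_eq_one,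
    GeneralLinearGroup.mem_center_iff_val_mem_range_scalar] at hx
  obtain ⟨a, ha⟩ := hx
  rw [ProjGenLinGroup.mk_eq_one, GeneralLinearGroup.mem_center_iff_val_mem_range_scalar]
  refine ⟨g 0 0, ?_⟩
  have h : ∀ i j, f (g i j) = (Matrix.scalar (Fin 2) a) i j := by
    intro i j
    rw [ha]
    rfl
  ext i j
  apply f.injective
  rw [h i j]
  have h00 := h 0 0
  fin_cases i <;> fin_cases j <;> simp_all [Matrix.scalar_apply, Matrix.diagonal_apply]

/-- quotient of non-squares in a finite field -/
theorem isSquare_div_of_not_isSquare {K : Type*} [Field K] [Finite K] {a b : K} (ha : ¬ IsSquare a)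
    (hb : ¬ IsSquare b) : IsSquare (a⁻¹ * b) := by
  have := Fintype.ofFinite K
  by_cases hc : ringChar K = 2
  · exact FiniteField.isSquare_of_char_two hc _
  have ha0 : a ≠ 0 := fun h => ha (by rw [h]; exact IsSquare.zero)
  have hb0 : b ≠ 0 := fun h => hb (by rw [h]; exact IsSquare.zero)
  have h1 : a ^ (Fintype.card K / 2) = -1 := by
    rcases FiniteField.pow_dichotomy hc ha0 with h | h
    · exact absurd ((FiniteField.isSquare_iff hc ha0).2 h) ha
    · exact h
  have h2 : b ^ (Fintype.card K / 2) = -1 := by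
    rcases FiniteField.pow_dichotomy hc hb0 with h | h
    · exact absurd ((FiniteField.isSquare_iff hc hb0).2 h) hb
    · exact h
  rw [FiniteField.isSquare_iff hc (mul_ne_zero (inv_ne_zero ha0) hb0), mul_pow, inv_pow, h1, h2]
  norm_num

section
variable {K : Type*} [Field K]

/-- An element of `GL₂(K)` of square determinant lies in the image of `PSL₂(K)` in `PGL₂(K)`. -/
theorem mk_mem_range_toPGL (g : GL (Fin 2) K) (h : IsSquare (g.det : K)) :
    ProjGenLinGroup.mk g ∈ (ProjectiveSpecialLinearGroup.toPGL (n := Fin 2) (R := K)).range := by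
  obtain ⟨r, hr⟩ := h
  have hr0 : r ≠ 0 := by
    intro h0
    rw [h0, mul_zero] at hr
    exact g.det.ne_zero hr
  have hdet : (r⁻¹ • (g : Matrix (Fin 2) (Fin 2) K)).det = 1 := by
    rw [Matrix.det_smul, Fintype.card_fin]
    have : (g : Matrix (Fin 2) (Fin 2) K).det = r * r := hr
    rw [this]
    field_simp
  let s : SpecialLinearGroup (Fin 2) K := ⟨r⁻¹ • (g : Matrix (Fin 2) (Fin 2) K), hdet⟩
  have hs : (s : Matrix (Fin 2) (Fin 2) K) = r⁻¹ • (g : Matrix (Fin 2) (Fin 2) K) := rfl
  refine ⟨QuotientGroup.mk s, ?_⟩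
  rw [ProjectiveSpecialLinearGroup.toPGL_mk, ProjGenLinGroup.mk_eq_mk_iff]
  refine ⟨Units.mk0 r hr0, Units.ext ?_⟩
  simp only [Units.val_mul, SpecialLinearGroup.coe_GL_coe_matrix, GeneralLinearGroup.coe_scalar, hs]
  ext i j
  simp [Matrix.mul_apply, Matrix.diagonal_apply]
  fin_cases j <;> simp <;> field_simp

/-- A subgroup of `PGL₂(K)`, `K` finite, containing the image of `PSL₂(K)` is that image or
everything. -/
theorem eq_range_or_eq_top [Finite K] (H : Subgroup (PGL(Fin 2, K)))
    (hH : (ProjectiveSpecialLinearGroup.toPGL (n := Fin 2) (R := K)).range ≤ H) :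
    H = (ProjectiveSpecialLinearGroup.toPGL (n := Fin 2) (R := K)).range ∨ H = ⊤ := by
  by_cases h : H ≤ (ProjectiveSpecialLinearGroup.toPGL (n := Fin 2) (R := K)).range
  · exact Or.inl (le_antisymm h hH)
  right
  obtain ⟨x, hxH, hxR⟩ := SetLike.not_le_iff_exists.1 h
  rw [eq_top_iff]
  intro y _
  by_cases hy : y ∈ (ProjectiveSpecialLinearGroup.toPGL (n := Fin 2) (R := K)).range
  · exact hH hy
  induction x using Matrix.ProjGenLinGroup.induction_on with | mk g =>
  induction y using Matrix.ProjGenLinGroup.induction_on with | mk g' =>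
  have h1 : ¬ IsSquare (g.det : K) := fun hs => hxR (mk_mem_range_toPGL g hs)
  have h2 : ¬ IsSquare (g'.det : K) := fun hs => hy (mk_mem_range_toPGL g' hs)
  have h3 : ProjGenLinGroup.mk (g⁻¹ * g') ∈
      (ProjectiveSpecialLinearGroup.toPGL (n := Fin 2) (R := K)).range := by
    apply mk_mem_range_toPGL
    have := isSquare_div_of_not_isSquare h1 h2
    simpa using this
  have h4 : ProjGenLinGroup.mk g' = ProjGenLinGroup.mk g * ProjGenLinGroup.mk (g⁻¹ * g') := by
    rw [← map_mul]
    congr 1
    group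
  rw [h4]
  exact H.mul_mem hxH (hH h3)

end

end Cfsg.Agent.Lib.Helper18.SL2
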