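import Mathlib
import Cfsg.Agent.Lib.Helper18.SL2.PGLSub

set_option autoImplicit false

/-!
Subgroups of `SL₂(F)` which are, up to conjugation in `GL₂(F)` and scalars, between `SL₂(K)` and
`GL₂(K)` for a subfield `K`.
-/

namespace Cfsg.Agent.Lib.Helper18.SL2

open Matrix MatrixGroups

variable {F : Type*} [Field F]

/-- `SL₂(F) → PGL₂(F)`, followed by conjugation by `D`. -/
noncomputable def Phi (D : GL (Fin 2) F) : SpecialLinearGroup (Fin 2) F →* PGL(Fin 2, F) :=
  (MulAut.conj (ProjGenLinGroup.mk D)).toMonoidHom.comp SpecialLinearGroup.toPGL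

theorem Phi_apply (D : GL (Fin 2) F) (g : SpecialLinearGroup (Fin 2) F) :
    Phi D g = ProjGenLinGroup.mk (D * SpecialLinearGroup.toGL g * D⁻¹) := by
  simp [Phi, MulAut.conj_apply]

/-- `PSL₂(F) → PGL₂(F)`, followed by conjugation by `D`. -/
noncomputable def PhiBar (D : GL (Fin 2) F) :
    ProjectiveSpecialLinearGroup (Fin 2) F →* PGL(Fin 2, F) :=
  (MulAut.conj (ProjGenLinGroup.mk D)).toMonoidHom.comp ProjectiveSpecialLinearGroup.toPGL

theorem PhiBar_injective (D : GL (Fin 2) F) : Function.Injective (PhiBar D) := by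
  intro x y h
  apply ProjectiveSpecialLinearGroup.toPGL_injective
  exact (MulAut.conj (ProjGenLinGroup.mk D)).injective h

theorem PhiBar_mk (D : GL (Fin 2) F) (g : SpecialLinearGroup (Fin 2) F) :
    PhiBar D (QuotientGroup.mk g) = Phi D g := rfl

/-- `G` is, after conjugation by `D` and modulo scalars, between `SL₂(K)` and `GL₂(K)`. -/
def InSub (K : Subfield F) (D : GL (Fin 2) F) (G : Subgroup (SpecialLinearGroup (Fin 2) F)) :
    Prop :=
  G.map (Phi D) ≤ (ProjGenLinGroup.map (n := Fin 2) K.subtype).range ∧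
  ((ProjectiveSpecialLinearGroup.toPGL (n := Fin 2) (R := K)).range).map
    (ProjGenLinGroup.map (n := Fin 2) K.subtype) ≤ G.map (Phi D)

theorem InSub.equiv [Finite F] {K : Subfield F} {D : GL (Fin 2) F}
    {G : Subgroup (SpecialLinearGroup (Fin 2) F)} (h : InSub K D G)
    (H : Subgroup (ProjectiveSpecialLinearGroup (Fin 2) F))
    (hH : ∀ g : SpecialLinearGroup (Fin 2) F, g ∈ G ↔
      (QuotientGroup.mk g : ProjectiveSpecialLinearGroup (Fin 2) F) ∈ H) :
    Nonempty (H ≃* ProjectiveSpecialLinearGroup (Fin 2) K) ∨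
      Nonempty (H ≃* ProjGenLinGroup (Fin 2) K) := by
  have hmap : H.map (PhiBar D) = G.map (Phi D) := by
    ext x
    constructor
    · rintro ⟨y, hy, rfl⟩
      induction y using QuotientGroup.induction_on with | H g =>
      exact ⟨g, (hH g).2 hy, rfl⟩
    · rintro ⟨g, hg, rfl⟩
      exact ⟨QuotientGroup.mk g, (hH g).1 hg, rfl⟩
  set ι := ProjGenLinGroup.map (n := Fin 2) K.subtype with hι
  have hιinj : Function.Injective ι := pgl_map_injective K.subtype
  set H' : Subgroup (PGL(Fin 2, K)) := (G.map (Phi D)).comap ι with hH'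
  have hH'map : H'.map ι = G.map (Phi D) := by
    rw [hH', Subgroup.map_comap_eq, inf_eq_right]
    exact h.1
  have e1 : H ≃* H.map (PhiBar D) := H.equivMapOfInjective _ (PhiBar_injective D)
  have e2 : H' ≃* H'.map ι := H'.equivMapOfInjective _ hιinj
  have e3 : H.map (PhiBar D) ≃* H'.map ι := MulEquiv.subgroupCongr (hmap.trans hH'map.symm)
  have e : H ≃* H' := (e1.trans e3).trans e2.symm
  have hR : (ProjectiveSpecialLinearGroup.toPGL (n := Fin 2) (R := K)).range ≤ H' := by
    rw [hH', ← Subgroup.map_le_iff_le_comap]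
    exact h.2
  rcases eq_range_or_eq_top H' hR with h1 | h1
  · left
    exact ⟨(e.trans (MulEquiv.subgroupCongr h1)).trans
      (MonoidHom.ofInjective ProjectiveSpecialLinearGroup.toPGL_injective).symm⟩
  · right
    exact ⟨(e.trans (MulEquiv.subgroupCongr h1)).trans Subgroup.topEquiv⟩

/-- `InSub` is invariant under conjugation in `SL₂(F)`. -/
theorem InSub.conj {K : Subfield F} {D : GL (Fin 2) F}
    {G : Subgroup (SpecialLinearGroup (Fin 2) F)} (x : SpecialLinearGroup (Fin 2) F)
    (h : InSub K D (G.map (MulAut.conj x).toMonoidHom)) :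
    InSub K (D * SpecialLinearGroup.toGL x) G := by
  have hmap : G.map (Phi (D * SpecialLinearGroup.toGL x)) =
      (G.map (MulAut.conj x).toMonoidHom).map (Phi D) := by
    rw [Subgroup.map_map]
    congr 1
    ext g
    simp only [MonoidHom.comp_apply, Phi_apply, MulEquiv.coe_toMonoidHom, MulAut.conj_apply, map_mul,
      map_inv, _root_.mul_inv_rev]
    group
  unfold InSub
  rw [hmap]
  exact h

end Cfsg.Agent.Lib.Helper18.SL2
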