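import Mathlib
import Cfsg.Agent.Lib.Helper46.SL2Basic
import Cfsg.Agent.Lib.Helper7.SL2
import Cfsg.Agent.Lib.Helper18.SL2.Hua
import Cfsg.Agent.Lib.Helper18.SL2.InSub

set_option autoImplicit false

/-!
Dickson's theorem, the `PSL₂(K)` / `PGL₂(K)` case, normalised form.
-/

namespace Cfsg.Agent.Lib.Helper18.SL2

open Matrix MatrixGroups Cfsg.Agent.Lib.Helper46

variable {F : Type*} [Field F]

theorem uu_add (a b : F) : uu (a + b) = uu a * uu b := by
  apply ext2 <;> simp [uu, mul_00, mul_01, mul_10, mul_11, add_comm]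

theorem uu_zero : uu (0 : F) = 1 := by
  apply ext2 <;> simp [uu]

theorem uu_neg (a : F) : uu (-a) = (uu a)⁻¹ := by
  apply ext2 <;> simp [uu, inv_00, inv_01, inv_10, inv_11]

theorem ll_add (a b : F) : ll (a + b) = ll a * ll b := by
  apply ext2 <;> simp [ll, mul_00, mul_01, mul_10, mul_11]

theorem ll_zero : ll (0 : F) = 1 := by
  apply ext2 <;> simp [ll]

theorem ll_neg (a : F) : ll (-a) = (ll a)⁻¹ := by
  apply ext2 <;> simp [ll, inv_00, inv_01, inv_10, inv_11]

/-- The additive group of the `x` with `uu (c * x) ∈ G`. -/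
def entryGroup (G : Subgroup (SpecialLinearGroup (Fin 2) F)) (c : F) : AddSubgroup F where
  carrier := {x | uu (c * x) ∈ G}
  add_mem' {a b} ha hb := by
    simp only [Set.mem_ofPred_eq] at *
    rw [mul_add, uu_add]
    exact G.mul_mem ha hb
  zero_mem' := by
    simp only [Set.mem_ofPred_eq]
    rw [mul_zero, uu_zero]
    exact G.one_mem
  neg_mem' {a} ha := by
    simp only [Set.mem_ofPred_eq] at *
    rw [mul_neg, uu_neg]
    exact G.inv_mem ha

theorem mem_entryGroup (G : Subgroup (SpecialLinearGroup (Fin 2) F)) (c x : F) :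
    x ∈ entryGroup G c ↔ uu (c * x) ∈ G := Iff.rfl

/-- `diag(c⁻¹, 1)`. -/
noncomputable def diagGL (c : F) (hc : c ≠ 0) : GL (Fin 2) F :=
  GeneralLinearGroup.mkOfDetNeZero !![c⁻¹, 0; 0, 1] (by simp [Matrix.det_fin_two_of, hc])

theorem diagGL_val (c : F) (hc : c ≠ 0) :
    ((diagGL c hc : GL (Fin 2) F) : Matrix (Fin 2) (Fin 2) F) = !![c⁻¹, 0; 0, 1] := rfl

theorem Phi_eq_map (K : Subfield F) (c : F) (hc : c ≠ 0) (g : SpecialLinearGroup (Fin 2) F)
    (g₀ : GL (Fin 2) K) (lam : F) (hlam : lam ≠ 0)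
    (h00 : g.1 0 0 = lam * (g₀ 0 0 : K)) (h01 : g.1 0 1 = lam * c * (g₀ 0 1 : K))
    (h10 : g.1 1 0 = lam * (g₀ 1 0 : K) / c) (h11 : g.1 1 1 = lam * (g₀ 1 1 : K)) :
    Phi (diagGL c hc) g = ProjGenLinGroup.map (n := Fin 2) K.subtype (ProjGenLinGroup.mk g₀) := by
  rw [Phi_apply, ProjGenLinGroup.map_mk, eq_comm, ProjGenLinGroup.mk_eq_mk_iff]
  refine ⟨Units.mk0 lam hlam, ?_⟩
  rw [eq_mul_inv_iff_mul_eq]
  apply Units.ext
  simp only [Units.val_mul, SpecialLinearGroup.coe_GL_coe_matrix, GeneralLinearGroup.coe_scalar,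
    diagGL_val]
  ext i j
  fin_cases i <;> fin_cases j <;>
    simp [Matrix.mul_apply, Fin.sum_univ_two, h00, h01, h10, h11, Matrix.diagonal_apply] <;>
    field_simp

/-- The normalised situation: `G` contains a non-trivial lower unitriangular element and the
orbit of the point `∞` is `{∞} ∪ A`, `A` the set of the upper right entries of the upper
unitriangular elements of `G`. -/
structure Normalized (G : Subgroup (SpecialLinearGroup (Fin 2) F)) : Prop where
  hl : ∃ b : F, b ≠ 0 ∧ ll b ∈ G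
  hK1 : ∀ g ∈ G, g.1 1 0 = 0 ∨ uu (g.1 0 0 / g.1 1 0) ∈ G

/-- the Weyl element `[[0, -c], [1/c, 0]]` -/
def wc (c : F) (hc : c ≠ 0) : SpecialLinearGroup (Fin 2) F :=
  mk2 0 (-c) (1 / c) 0 (by field_simp; ring)

theorem Normalized.main [Finite F] {G : Subgroup (SpecialLinearGroup (Fin 2) F)}
    (h : Normalized G) :
    ∃ (K : Subfield F) (c : F) (hc : c ≠ 0), (∀ x, uu (c * x) ∈ G ↔ x ∈ K) ∧
      InSub K (diagGL c hc) G := by
  obtain ⟨b, hb, hlb⟩ := h.hl
  set c : F := 1 / b with hcdef
  have hc : c ≠ 0 := by rw [hcdef]; exact one_div_ne_zero hb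
  have hbc : b = 1 / c := by rw [hcdef]; field_simp
  -- `uu c ∈ G`
  have huc : uu c ∈ G := by
    rcases h.hK1 _ hlb with h0 | h0
    · simp [ll] at h0
      exact absurd h0 hb
    · have h1 : (ll b).1 0 0 / (ll b).1 1 0 = c := by simp [ll, hcdef]
      rwa [h1] at h0
  -- the Weyl element
  have hw : wc c hc ∈ G := by
    have : wc c hc = uu (-c) * ll b * uu (-c) := by
      rw [hbc]
      apply ext2 <;> simp only [wc, uu, ll, mul_00, mul_01, mul_10, mul_11, mk2_00, mk2_01, mk2_10,
        mk2_11] <;> field_simp <;> ring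
    rw [this, uu_neg]
    exact G.mul_mem (G.mul_mem (G.inv_mem huc) hlb) (G.inv_mem huc)
  -- inversion
  have hinv0 : ∀ a : F, a ≠ 0 → uu a ∈ G → uu (-c ^ 2 / a) ∈ G := by
    intro a ha hua
    have hg : wc c hc * uu a * wc c hc ∈ G := G.mul_mem (G.mul_mem hw hua) hw
    rcases h.hK1 _ hg with h0 | h0
    · exfalso
      simp [wc, uu, mul_10, mul_11] at h0
      tauto
    · have h1 : (wc c hc * uu a * wc c hc).1 0 0 / (wc c hc * uu a * wc c hc).1 1 0 = -c ^ 2 / a := by
        simp [wc, uu, mul_00, mul_01, mul_10, mul_11]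
        field_simp
      rwa [h1] at h0
  set A := entryGroup G c with hA
  have h1A : (1 : F) ∈ A := by
    rw [hA, mem_entryGroup, mul_one]; exact huc
  have hinvA : ∀ x ∈ A, x⁻¹ ∈ A := by
    intro x hx
    by_cases hx0 : x = 0
    · rw [hx0, _root_.inv_zero]; exact A.zero_mem
    have h2 := hinv0 (c * x) (mul_ne_zero hc hx0) hx
    have h3 : -c ^ 2 / (c * x) = c * (-x⁻¹) := by field_simp
    rw [h3] at h2
    have h4 : -x⁻¹ ∈ A := h2
    simpa using A.neg_mem h4
  set K := subfieldOfInvClosed A h1A hinvA with hK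
  have hKmem : ∀ x, uu (c * x) ∈ G ↔ x ∈ K := fun x => Iff.rfl
  have hPu : ∀ x : K, Phi (diagGL c hc) (uu (c * (x : F))) =
      ProjGenLinGroup.map (n := Fin 2) K.subtype
        (ProjGenLinGroup.mk (SpecialLinearGroup.toGL (uu x))) := by
    intro x
    apply Phi_eq_map K c hc _ _ 1 one_ne_zero <;>
      simp [uu]
  have hPl : ∀ x : K, Phi (diagGL c hc) (ll ((x : F) / c)) =
      ProjGenLinGroup.map (n := Fin 2) K.subtype
        (ProjGenLinGroup.mk (SpecialLinearGroup.toGL (ll x))) := by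
    intro x
    apply Phi_eq_map K c hc _ _ 1 one_ne_zero <;>
      simp [ll]
  have hPw : Phi (diagGL c hc) (wc c hc) =
      ProjGenLinGroup.map (n := Fin 2) K.subtype
        (ProjGenLinGroup.mk (SpecialLinearGroup.toGL (mk2 (0 : K) (-1) 1 0 (by ring)))) := by
    apply Phi_eq_map K c hc _ _ 1 one_ne_zero <;>
      simp [wc]
  have hll : ∀ x : K, ll ((x : F) / c) ∈ G := by
    intro x
    have h1 : ll ((x : F) / c) = wc c hc * uu (c * (-(x : F))) * (wc c hc)⁻¹ := by
      apply ext2 <;> simp only [wc, uu, ll, mul_00, mul_01, mul_10, mul_11, mk2_00, mk2_01, mk2_10,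
        mk2_11, inv_00, inv_01, inv_10, inv_11] <;> field_simp <;> ring
    rw [h1]
    exact G.mul_mem (G.mul_mem hw ((hKmem _).2 (K.neg_mem x.2))) (G.inv_mem hw)
  refine ⟨K, c, hc, hKmem, ?_, ?_⟩
  · -- upper triangular elements
    have hB : ∀ g ∈ G, g.1 1 0 = 0 → Phi (diagGL c hc) g ∈
        (ProjGenLinGroup.map (n := Fin 2) K.subtype).range := by
      intro g hg h10
      have hd := det2 g
      rw [h10, mul_zero, sub_zero] at hd
      have h00 : g.1 0 0 ≠ 0 := left_ne_zero_of_mul_eq_one hd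
      have h11 : g.1 1 1 ≠ 0 := right_ne_zero_of_mul_eq_one hd
      have ht : (g.1 0 0) ^ 2 ∈ K := by
        rw [← hKmem]
        have h1 : uu (c * (g.1 0 0) ^ 2) = g * uu c * g⁻¹ := by
          apply ext2 <;> simp only [uu, mul_00, mul_01, mul_10, mul_11, mk2_00, mk2_01, mk2_10,
            mk2_11, inv_00, inv_01, inv_10, inv_11, h10]
          · linear_combination -hd
          · ring
          · ring
          · linear_combination -hd
        rw [h1]
        exact G.mul_mem (G.mul_mem hg huc) (G.inv_mem hg)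
      have hy : g.1 0 1 / (g.1 1 1 * c) ∈ K := by
        rw [← hKmem]
        rcases h.hK1 _ (G.mul_mem hg hw) with h0 | h0
        · exfalso
          simp [wc, mul_10, h10] at h0
          tauto
        · have h1 : (g * wc c hc).1 0 0 / (g * wc c hc).1 1 0 = c * (g.1 0 1 / (g.1 1 1 * c)) := by
            simp only [wc, mul_00, mul_10, mk2_00, mk2_10, h10, mul_zero, zero_mul, zero_add]
            field_simp
          rwa [h1] at h0
      have hdet : (!![(⟨(g.1 0 0) ^ 2, ht⟩ : K), ⟨g.1 0 1 / (g.1 1 1 * c), hy⟩; 0, 1]).det ≠ 0 := by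
        rw [Matrix.det_fin_two_of]
        simp only [mul_one, mul_zero, sub_zero]
        intro h0
        have := congrArg Subtype.val h0
        simp at this
        exact h00 this
      refine ⟨ProjGenLinGroup.mk (GeneralLinearGroup.mkOfDetNeZero _ hdet), ?_⟩
      symm
      apply Phi_eq_map K c hc _ _ (g.1 1 1) h11
      · simp [GeneralLinearGroup.mkOfDetNeZero]
        linear_combination (-g.1 0 0) * hd
      · simp [GeneralLinearGroup.mkOfDetNeZero]
        field_simp
      · simp [GeneralLinearGroup.mkOfDetNeZero, h10]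
      · simp [GeneralLinearGroup.mkOfDetNeZero]
    rintro _ ⟨g, hg, rfl⟩
    by_cases h10 : g.1 1 0 = 0
    · exact hB g hg h10
    · have hua : uu (g.1 0 0 / g.1 1 0) ∈ G := (h.hK1 g hg).resolve_left h10
      set a := g.1 0 0 / g.1 1 0 with ha
      set g' := (wc c hc)⁻¹ * (uu a)⁻¹ * g with hg'
      have hg'G : g' ∈ G := G.mul_mem (G.mul_mem (G.inv_mem hw) (G.inv_mem hua)) hg
      have hg'10 : g'.1 1 0 = 0 := by
        rw [hg']
        simp only [wc, uu, mul_10, mul_11, mk2_00, mk2_01, mk2_10,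
            mk2_11, inv_00, inv_01, inv_10, inv_11, ha]
        field_simp
        ring
      have hgeq : g = uu a * wc c hc * g' := by
        rw [hg']; group
      have hak : a / c ∈ K := by
        rw [← hKmem]
        have : c * (a / c) = a := by field_simp
        rwa [this]
      have hua' : Phi (diagGL c hc) (uu a) ∈ (ProjGenLinGroup.map (n := Fin 2) K.subtype).range := by
        have h1 := hPu ⟨a / c, hak⟩
        have h2 : c * (a / c) = a := by field_simp
        simp only [h2] at h1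
        rw [h1]
        exact ⟨_, rfl⟩
      rw [hgeq, map_mul, map_mul]
      exact Subgroup.mul_mem _ (Subgroup.mul_mem _ hua' (by rw [hPw]; exact ⟨_, rfl⟩)) (hB g' hg'G hg'10)
  · have hT : ((G.map (Phi (diagGL c hc))).comap (ProjGenLinGroup.map (n := Fin 2) K.subtype)).comap
        (SpecialLinearGroup.toPGL (n := Fin 2) (R := K)) = ⊤ := by
      apply Cfsg.Agent.Lib.Helper7.eq_top_of_uSL_lSL
      · intro x
        rw [Subgroup.mem_comap, Subgroup.mem_comap]
        exact ⟨uu (c * (x : F)), (hKmem _).2 x.2, hPu x⟩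
      · intro x
        rw [Subgroup.mem_comap, Subgroup.mem_comap]
        exact ⟨ll ((x : F) / c), hll x, hPl x⟩
    rintro _ ⟨_, ⟨y, rfl⟩, rfl⟩
    induction y using QuotientGroup.induction_on with | H s =>
    have hs : s ∈ ((G.map (Phi (diagGL c hc))).comap
        (ProjGenLinGroup.map (n := Fin 2) K.subtype)).comap
        (SpecialLinearGroup.toPGL (n := Fin 2) (R := K)) := by
      rw [hT]; trivial
    exact hs

end Cfsg.Agent.Lib.Helper18.SL2
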