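import Mathlib
import Cfsg.Agent.Lib.Helper18.SL2.PartC

set_option autoImplicit false
set_option linter.unusedSimpArgs false

/-!
Dickson's theorem, the `PSL₂(K)` / `PGL₂(K)` case: reduction of the Sylow hypothesis to the
normalised form.
-/

namespace Cfsg.Agent.Lib.Helper18.SL2

open Matrix MatrixGroups Cfsg.Agent.Lib.Helper46

/-- If there are `|P₁| + 1` Sylow subgroups and `P₁` acts semiregularly on the orbit of `P₂`,
then every Sylow subgroup is `P₁` or a `P₁`-conjugate of `P₂`. -/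
theorem sylow_cases {G : Type*} [Group G] [Finite G] (p : ℕ) [Fact p.Prime] (P₁ P₂ : Sylow p G)
    (hne : P₁ ≠ P₂) (hn : Nat.card (Sylow p G) = Nat.card P₁ + 1)
    (hTI : ∀ γ ∈ P₁, γ • P₂ = P₂ → γ = 1) (P : Sylow p G) :
    P = P₁ ∨ ∃ γ ∈ P₁, P = γ • P₂ := by
  let φ : Option P₁ → Sylow p G := fun o => o.elim P₁ (fun γ => (γ : G) • P₂)
  have hfix : ∀ γ ∈ P₁, γ • P₁ = P₁ := by
    intro γ hγ
    rw [Sylow.smul_eq_iff_mem_normalizer]
    exact Subgroup.le_normalizer hγ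
  have hinj : Function.Injective φ := by
    intro a b hab
    rcases a with _ | γ <;> rcases b with _ | γ'
    · rfl
    · exfalso
      have h1 : P₁ = (γ' : G) • P₂ := hab
      apply hne
      have h2 : (γ' : G)⁻¹ • P₁ = P₂ := by
        rw [inv_smul_eq_iff]; exact h1
      rw [← h2, hfix _ (P₁.inv_mem γ'.2)]
    · exfalso
      have h1 : (γ : G) • P₂ = P₁ := hab
      apply hne
      have h2 : (γ : G)⁻¹ • P₁ = P₂ := by
        rw [inv_smul_eq_iff]; exact h1.symm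
      rw [← h2, hfix _ (P₁.inv_mem γ.2)]
    · have h1 : (γ : G) • P₂ = (γ' : G) • P₂ := hab
      have h2 : ((γ' : G)⁻¹ * γ) • P₂ = P₂ := by rw [mul_smul, h1, inv_smul_smul]
      have h3 := hTI _ (P₁.mul_mem (P₁.inv_mem γ'.2) γ.2) h2
      have h4 : (γ : G) = γ' := by
        rw [inv_mul_eq_one] at h3
        exact h3.symm
      rw [Subtype.ext h4]
  have hcard : Nat.card (Option P₁) = Nat.card (Sylow p G) := by
    rw [hn, Finite.card_option]
  have hsurj : Function.Surjective φ := by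
    have := (Nat.bijective_iff_injective_and_card φ).2 ⟨hinj, hcard⟩
    exact this.2
  obtain ⟨o, ho⟩ := hsurj P
  rcases o with _ | γ
  · left; exact ho.symm
  · right; exact ⟨γ, γ.2, ho.symm⟩

variable {F : Type*} [Field F]

/-- `g` fixes the vector `(v0, v1)`. -/
def fixv (g : SpecialLinearGroup (Fin 2) F) (v0 v1 : F) : Prop :=
  g.1 0 0 * v0 + g.1 0 1 * v1 = v0 ∧ g.1 1 0 * v0 + g.1 1 1 * v1 = v1

theorem eq_uu_iff (t : SpecialLinearGroup (Fin 2) F) : (∃ a, t = uu a) ↔ fixv t 1 0 := by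
  constructor
  · rintro ⟨a, rfl⟩
    simp [fixv, uu]
  · rintro ⟨h0, h1⟩
    simp only [mul_one, mul_zero, add_zero] at h0 h1
    have hd := det2 t
    rw [h0, h1] at hd
    refine ⟨t.1 0 1, ?_⟩
    apply ext2 <;> simp [uu, h0, h1]
    linear_combination hd

theorem eq_ll_iff (t : SpecialLinearGroup (Fin 2) F) : (∃ a, t = ll a) ↔ fixv t 0 1 := by
  constructor
  · rintro ⟨a, rfl⟩
    simp [fixv, ll]
  · rintro ⟨h0, h1⟩
    simp only [mul_one, mul_zero, zero_add] at h0 h1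
    have hd := det2 t
    rw [h0, h1] at hd
    refine ⟨t.1 1 0, ?_⟩
    apply ext2 <;> simp [ll, h0, h1]
    linear_combination hd

theorem fixv_conj_iff (y g : SpecialLinearGroup (Fin 2) F) (e0 e1 : F) :
    fixv (y⁻¹ * g * y) e0 e1 ↔
      fixv g (y.1 0 0 * e0 + y.1 0 1 * e1) (y.1 1 0 * e0 + y.1 1 1 * e1) := by
  have hd := det2 y
  unfold fixv
  simp only [mul_00, mul_01, mul_10, mul_11, inv_00, inv_01, inv_10, inv_11]
  constructor
  · rintro ⟨h0, h1⟩
    constructor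
    · linear_combination y.1 0 0 * h0 + y.1 0 1 * h1 -
        (g.1 0 0 * (y.1 0 0 * e0 + y.1 0 1 * e1) + g.1 0 1 * (y.1 1 0 * e0 + y.1 1 1 * e1)) * hd
    · linear_combination y.1 1 0 * h0 + y.1 1 1 * h1 -
        (g.1 1 0 * (y.1 0 0 * e0 + y.1 0 1 * e1) + g.1 1 1 * (y.1 1 0 * e0 + y.1 1 1 * e1)) * hd
  · rintro ⟨h0, h1⟩
    constructor
    · linear_combination y.1 1 1 * h0 - y.1 0 1 * h1 + e0 * hd
    · linear_combination -y.1 1 0 * h0 + y.1 0 0 * h1 + e1 * hd

theorem fixv_smul_iff (g : SpecialLinearGroup (Fin 2) F) (v0 v1 r : F) (hr : r ≠ 0) :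
    fixv g (r * v0) (r * v1) ↔ fixv g v0 v1 := by
  unfold fixv
  constructor
  · rintro ⟨h0, h1⟩
    constructor
    · apply mul_left_cancel₀ hr
      linear_combination h0
    · apply mul_left_cancel₀ hr
      linear_combination h1
  · rintro ⟨h0, h1⟩
    constructor
    · linear_combination r * h0
    · linear_combination r * h1

/-- Every Sylow `p`-subgroup of a subgroup of `SL₂(F)` is the fixer of a non-zero vector. -/
theorem sylow_eq_fixer [Fintype F] (p : ℕ) [Fact p.Prime] [CharP F p]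
    (G : Subgroup (SpecialLinearGroup (Fin 2) F)) (P : Sylow p G) :
    ∃ v0 v1 : F, (v0 ≠ 0 ∨ v1 ≠ 0) ∧ ∀ g : G, g ∈ P ↔ fixv g.1 v0 v1 := by
  obtain ⟨Q, hQ⟩ := P.exists_comap_subtype_eq
  obtain ⟨P0, y, hP0, hy⟩ := Cfsg.Agent.Lib.Helper7.sylow_eq_smul_USL p Q
  refine ⟨y.1 0 0, y.1 1 0, ?_, ?_⟩
  · by_contra hcon
    push Not at hcon
    have hd := det2 y
    rw [hcon.1, hcon.2] at hd
    simp at hd
  · intro g
    have h3 := fixv_conj_iff y g.1 1 0
    simp only [mul_one, mul_zero, add_zero] at h3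
    rw [← h3, ← eq_uu_iff]
    have h1 : g ∈ P ↔ (g : SpecialLinearGroup (Fin 2) F) ∈ Q := by
      have : g ∈ (P : Subgroup G) ↔ (g : SpecialLinearGroup (Fin 2) F) ∈ Q := by
        rw [← hQ]
        exact Iff.rfl
      exact this
    rw [h1, ← hy, Cfsg.Agent.Lib.Helper7.mem_smul_sylow_iff]
    have h2 : ∀ t, t ∈ P0 ↔ t ∈ Cfsg.Agent.Lib.Helper7.USL F := by
      intro t
      rw [← hP0]
      exact Iff.rfl
    rw [h2, Cfsg.Agent.Lib.Helper7.mem_USL]
    constructor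
    · rintro ⟨b, hb⟩
      exact ⟨b, hb.symm⟩
    · rintro ⟨b, hb⟩
      exact ⟨b, hb.symm⟩

theorem conj_eq_iff {H : Type*} [Group H] (x g t : H) : x⁻¹ * g * x = t ↔ g = x * t * x⁻¹ := by
  constructor
  · intro h; rw [← h]; group
  · intro h; rw [h]; group

theorem uu_injective : Function.Injective (uu : F → SpecialLinearGroup (Fin 2) F) := by
  intro a b h
  have := congrArg (fun z : SpecialLinearGroup (Fin 2) F => z.1 0 1) h
  simpa [uu] using this

theorem exists_normalized [Fintype F] (p : ℕ) [Fact p.Prime] [CharP F p]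
    (G : Subgroup (SpecialLinearGroup (Fin 2) F)) (q₀ : ℕ) (hq : ∀ P : Sylow p G, Nat.card P = q₀)
    (hn : Nat.card (Sylow p G) = q₀ + 1) :
    ∃ x : SpecialLinearGroup (Fin 2) F, Normalized (G.comap (MulAut.conj x).toMonoidHom) ∧
      Nat.card {a : F // uu a ∈ G.comap (MulAut.conj x).toMonoidHom} = q₀ := by
  have hq1 : 1 ≤ q₀ := by
    obtain ⟨P⟩ : Nonempty (Sylow p G) := inferInstance
    rw [← hq P]
    exact Nat.card_pos
  have hnt : Nontrivial (Sylow p G) := by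
    rw [← Finite.one_lt_card_iff_nontrivial, hn]
    omega
  obtain ⟨P₁, P₂, hne⟩ := exists_pair_ne (Sylow p G)
  have hq2 : 1 < q₀ := by
    rcases Nat.lt_or_ge 1 q₀ with h | h
    · exact h
    · exfalso
      have h1 : q₀ = 1 := le_antisymm h hq1
      apply hne
      apply Sylow.ext
      rw [Subgroup.eq_bot_of_card_eq _ ((hq P₁).trans h1), Subgroup.eq_bot_of_card_eq _ ((hq P₂).trans h1)]
  obtain ⟨v0, v1, hv, hP₁⟩ := sylow_eq_fixer p G P₁
  obtain ⟨w0, w1, hw, hP₂⟩ := sylow_eq_fixer p G P₂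
  have hd : v0 * w1 - v1 * w0 ≠ 0 := by
    intro hd
    apply hne
    obtain ⟨r, hr, hr0, hr1⟩ : ∃ r : F, r ≠ 0 ∧ w0 = r * v0 ∧ w1 = r * v1 := by
      by_cases h0 : v0 = 0
      · have h1 : v1 ≠ 0 := hv.resolve_left (not_not.2 h0)
        have hw0 : w0 = 0 := by
          rw [h0] at hd
          have : v1 * w0 = 0 := by linear_combination -hd
          exact (mul_eq_zero.1 this).resolve_left h1
        have hw1 : w1 ≠ 0 := hw.resolve_left (not_not.2 hw0)
        refine ⟨w1 / v1, div_ne_zero hw1 h1, ?_, ?_⟩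
        · rw [hw0, h0, mul_zero]
        · field_simp
      · have hw0 : w0 ≠ 0 := by
          intro hw0
          have hw1 : w1 ≠ 0 := hw.resolve_left (not_not.2 hw0)
          rw [hw0] at hd
          have : v0 * w1 = 0 := by linear_combination hd
          rcases mul_eq_zero.1 this with h | h
          · exact h0 h
          · exact hw1 h
        refine ⟨w0 / v0, div_ne_zero hw0 h0, ?_, ?_⟩
        · field_simp
        · field_simp
          linear_combination hd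
    ext g
    change g ∈ P₁ ↔ g ∈ P₂
    rw [hP₁, hP₂, hr0, hr1, fixv_smul_iff _ _ _ _ hr]
  set d := v0 * w1 - v1 * w0 with hddef
  set x : SpecialLinearGroup (Fin 2) F := mk2 v0 (w0 / d) v1 (w1 / d) (by
    field_simp
    rw [hddef]; ring) with hx
  have F1 : ∀ g : G, g ∈ P₁ ↔ ∃ a, g.1 = x * uu a * x⁻¹ := by
    intro g
    have h3 := fixv_conj_iff x g.1 1 0
    simp only [mul_one, mul_zero, add_zero] at h3
    have h4 : fixv g.1 (x.1 0 0) (x.1 1 0) ↔ fixv g.1 v0 v1 := by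
      simp [hx]
    rw [hP₁, ← h4, ← h3, ← eq_uu_iff]
    simp only [conj_eq_iff]
  have F2 : ∀ g : G, g ∈ P₂ ↔ ∃ a, g.1 = x * ll a * x⁻¹ := by
    intro g
    have h3 := fixv_conj_iff x g.1 0 1
    simp only [mul_one, mul_zero, zero_add] at h3
    have h4 : fixv g.1 (x.1 0 1) (x.1 1 1) ↔ fixv g.1 w0 w1 := by
      have h5 : x.1 0 1 = d⁻¹ * w0 := by simp [hx]; field_simp
      have h6 : x.1 1 1 = d⁻¹ * w1 := by simp [hx]; field_simp
      rw [h5, h6, fixv_smul_iff _ _ _ _ (inv_ne_zero hd)]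
    rw [hP₂, ← h4, ← h3, ← eq_ll_iff]
    simp only [conj_eq_iff]
  have hmemG₁ : ∀ s, s ∈ G.comap (MulAut.conj x).toMonoidHom ↔ x * s * x⁻¹ ∈ G := by
    intro s
    rw [Subgroup.mem_comap]
    rfl
  -- non-trivial elements
  obtain ⟨h₂, hh₂, hh₂1⟩ : ∃ h : G, h ∈ P₂ ∧ h ≠ 1 := by
    have : Nontrivial P₂ := by
      rw [← Finite.one_lt_card_iff_nontrivial]
      exact (hq P₂).symm ▸ hq2
    obtain ⟨h, hh⟩ := exists_ne (1 : P₂)
    exact ⟨h.1, h.2, fun h1 => hh (Subtype.ext h1)⟩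
  obtain ⟨b, hb⟩ := (F2 h₂).1 hh₂
  have hb0 : b ≠ 0 := by
    intro h0
    apply hh₂1
    apply Subtype.ext
    rw [hb, h0, ll_zero]
    simp
  obtain ⟨h₁, hh₁, hh₁1⟩ : ∃ h : G, h ∈ P₁ ∧ h ≠ 1 := by
    have : Nontrivial P₁ := by
      rw [← Finite.one_lt_card_iff_nontrivial]
      exact (hq P₁).symm ▸ hq2
    obtain ⟨h, hh⟩ := exists_ne (1 : P₁)
    exact ⟨h.1, h.2, fun h1 => hh (Subtype.ext h1)⟩
  obtain ⟨a₀, ha₀⟩ := (F1 h₁).1 hh₁
  have ha₀0 : a₀ ≠ 0 := by
    intro h0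
    apply hh₁1
    apply Subtype.ext
    rw [ha₀, h0, uu_zero]
    simp
  have hTI : ∀ γ ∈ P₁, γ • P₂ = P₂ → γ = 1 := by
    intro γ hγ hfix
    obtain ⟨a, ha⟩ := (F1 γ).1 hγ
    have h1 : γ * h₂ * γ⁻¹ ∈ γ • P₂ := by
      rw [Cfsg.Agent.Lib.Helper7.mem_smul_sylow_iff]
      have : γ⁻¹ * (γ * h₂ * γ⁻¹) * γ = h₂ := by group
      rw [this]; exact hh₂
    rw [hfix] at h1
    obtain ⟨b', hb'⟩ := (F2 _).1 h1
    have h2 : uu a * ll b * (uu a)⁻¹ = ll b' := by
      have h3 : (γ * h₂ * γ⁻¹ : G).1 = γ.1 * h₂.1 * γ.1⁻¹ := rfl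
      rw [h3, ha, hb] at hb'
      have h4 : x * uu a * x⁻¹ * (x * ll b * x⁻¹) * (x * uu a * x⁻¹)⁻¹ =
          x * (uu a * ll b * (uu a)⁻¹) * x⁻¹ := by group
      rw [h4] at hb'
      exact mul_left_cancel (mul_right_cancel hb')
    have h5 := congrArg (fun z : SpecialLinearGroup (Fin 2) F => z.1 0 1) h2
    simp only [uu, ll, mul_00, mul_01, mul_10, mul_11, mk2_00, mk2_01, mk2_10,
      mk2_11, inv_00, inv_01, inv_10, inv_11] at h5
    have h6 : a * a * b = 0 := by linear_combination -h5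
    have h7 : a = 0 := by
      rcases mul_eq_zero.1 h6 with h | h
      · rcases mul_eq_zero.1 h with h | h <;> exact h
      · exact absurd h hb0
    apply Subtype.ext
    rw [ha, h7, uu_zero]
    simp
  have hcases := sylow_cases p P₁ P₂ hne (by rw [hn, hq P₁]) hTI
  refine ⟨x, ⟨⟨b, hb0, ?_⟩, ?_⟩, ?_⟩
  · rw [hmemG₁, ← hb]
    exact h₂.2
  · intro s hs
    rw [hmemG₁] at hs
    set g : G := ⟨x * s * x⁻¹, hs⟩ with hg
    have h1 : g * h₁ * g⁻¹ ∈ g • P₁ := by
      rw [Cfsg.Agent.Lib.Helper7.mem_smul_sylow_iff]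
      have : g⁻¹ * (g * h₁ * g⁻¹) * g = h₁ := by group
      rw [this]; exact hh₁
    rcases hcases (g • P₁) with hc | ⟨γ, hγ, hc⟩
    · left
      rw [hc] at h1
      obtain ⟨a', ha'⟩ := (F1 _).1 h1
      have h2 : s * uu a₀ * s⁻¹ = uu a' := by
        have h3 : (g * h₁ * g⁻¹ : G).1 = (x * s * x⁻¹) * h₁.1 * (x * s * x⁻¹)⁻¹ := rfl
        rw [h3, ha₀] at ha'
        have h4 : x * s * x⁻¹ * (x * uu a₀ * x⁻¹) * (x * s * x⁻¹)⁻¹ =
            x * (s * uu a₀ * s⁻¹) * x⁻¹ := by group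
        rw [h4] at ha'
        exact mul_left_cancel (mul_right_cancel ha')
      have h5 := congrArg (fun z : SpecialLinearGroup (Fin 2) F => z.1 1 0) h2
      simp only [uu, mul_00, mul_01, mul_10, mul_11, mk2_00, mk2_01, mk2_10,
        mk2_11, inv_00, inv_01, inv_10, inv_11] at h5
      have h6 : s.1 1 0 * s.1 1 0 * a₀ = 0 := by linear_combination -h5
      rcases mul_eq_zero.1 h6 with h | h
      · rcases mul_eq_zero.1 h with h | h <;> exact h
      · exact absurd h ha₀0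
    · rw [hc, Cfsg.Agent.Lib.Helper7.mem_smul_sylow_iff] at h1
      obtain ⟨a, ha⟩ := (F1 γ).1 hγ
      obtain ⟨b', hb'⟩ := (F2 _).1 h1
      have h2 : (uu a)⁻¹ * (s * uu a₀ * s⁻¹) * uu a = ll b' := by
        have h3 : (γ⁻¹ * (g * h₁ * g⁻¹) * γ : G).1 =
            γ.1⁻¹ * ((x * s * x⁻¹) * h₁.1 * (x * s * x⁻¹)⁻¹) * γ.1 := rfl
        rw [h3, ha₀, ha] at hb'
        have h4 : (x * uu a * x⁻¹)⁻¹ * (x * s * x⁻¹ * (x * uu a₀ * x⁻¹) * (x * s * x⁻¹)⁻¹) *
            (x * uu a * x⁻¹) = x * ((uu a)⁻¹ * (s * uu a₀ * s⁻¹) * uu a) * x⁻¹ := by group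
        rw [h4] at hb'
        exact mul_left_cancel (mul_right_cancel hb')
      have h5 := congrArg (fun z : SpecialLinearGroup (Fin 2) F => z.1 0 1) h2
      simp only [uu, ll, mul_00, mul_01, mul_10, mul_11, mk2_00, mk2_01, mk2_10,
        mk2_11, inv_00, inv_01, inv_10, inv_11] at h5
      have hds := det2 s
      have h6 : (s.1 0 0 - a * s.1 1 0) * (s.1 0 0 - a * s.1 1 0) * a₀ = 0 := by
        linear_combination h5
      have h7 : s.1 0 0 - a * s.1 1 0 = 0 := by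
        rcases mul_eq_zero.1 h6 with h | h
        · rcases mul_eq_zero.1 h with h | h <;> exact h
        · exact absurd h ha₀0
      by_cases h10 : s.1 1 0 = 0
      · left; exact h10
      · right
        have h8 : s.1 0 0 / s.1 1 0 = a := by
          field_simp
          linear_combination h7
        rw [h8, hmemG₁, ← ha]
        exact γ.2
  · rw [← hq P₁]
    have hmem : ∀ a : {a : F // uu a ∈ G.comap (MulAut.conj x).toMonoidHom}, x * uu a.1 * x⁻¹ ∈ G :=
      fun a => (hmemG₁ _).1 a.2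
    apply Nat.card_eq_of_bijective
      (fun a : {a : F // uu a ∈ G.comap (MulAut.conj x).toMonoidHom} =>
        (⟨⟨x * uu a.1 * x⁻¹, hmem a⟩, (F1 _).2 ⟨a.1, rfl⟩⟩ : P₁))
    constructor
    · intro a a' h
      have h1 : x * uu a.1 * x⁻¹ = x * uu a'.1 * x⁻¹ := congrArg (fun z : P₁ => z.1.1) h
      exact Subtype.ext (uu_injective (mul_left_cancel (mul_right_cancel h1)))
    · rintro ⟨γ, hγ⟩
      obtain ⟨a, ha⟩ := (F1 γ).1 hγ
      refine ⟨⟨a, ?_⟩, ?_⟩
      · rw [hmemG₁, ← ha]; exact γ.2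
      · apply Subtype.ext
        apply Subtype.ext
        exact ha.symm

end Cfsg.Agent.Lib.Helper18.SL2
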