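import Mathlib
import Cfsg.Agent.Lib.Helper6.SLEquiv
import Cfsg.Agent.Lib.Helper18.SL2.PartC0

set_option autoImplicit false

/-!
Dickson's theorem, the `PSL₂(K)` / `PGL₂(K)` case: a subgroup `G` of `SL₂(F)` whose Sylow
`p`-subgroups have order `q₀` and are `q₀ + 1` in number.
-/

namespace Cfsg.Agent.Lib.Helper18.SL2

open Matrix MatrixGroups Cfsg.Agent.Lib.Helper46

/-- `PGL` of isomorphic rings. -/
noncomputable def pglEquiv {n R S : Type*} [Fintype n] [DecidableEq n] [CommRing R] [CommRing S]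
    (e : R ≃+* S) : ProjGenLinGroup n R ≃* ProjGenLinGroup n S :=
  MonoidHom.toMulEquiv (ProjGenLinGroup.map (e : R →+* S)) (ProjGenLinGroup.map (e.symm : S →+* R))
    (by rw [← ProjGenLinGroup.map_comp]; simp)
    (by rw [← ProjGenLinGroup.map_comp]; simp)

variable {F : Type*} [Field F]

theorem partC [Fintype F] (p : ℕ) [Fact p.Prime] [CharP F p]
    (G : Subgroup (SpecialLinearGroup (Fin 2) F)) (q₀ : ℕ) (hq : ∀ P : Sylow p G, Nat.card P = q₀)
    (hn : Nat.card (Sylow p G) = q₀ + 1) :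
    ∃ (K : Subfield F) (D : GL (Fin 2) F), Nat.card K = q₀ ∧ InSub K D G := by
  obtain ⟨x, hN, hcard⟩ := exists_normalized p G q₀ hq hn
  obtain ⟨K, c, hc, hmem, hIn⟩ := hN.main
  refine ⟨K, diagGL c hc * SpecialLinearGroup.toGL x⁻¹, ?_, ?_⟩
  · rw [← hcard]
    apply Nat.card_eq_of_bijective (fun y : K =>
      (⟨c * y.1, (hmem _).2 y.2⟩ : {a : F // uu a ∈ G.comap (MulAut.conj x).toMonoidHom}))
    constructor
    · intro y y' h
      have h1 : c * y.1 = c * y'.1 := congrArg Subtype.val h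
      exact Subtype.ext (mul_left_cancel₀ hc h1)
    · rintro ⟨a, ha⟩
      have h1 : c * (a / c) = a := by field_simp
      refine ⟨⟨a / c, (hmem _).1 (by rw [h1]; exact ha)⟩, ?_⟩
      exact Subtype.ext h1
  · apply InSub.conj
    have h1 : G.map (MulAut.conj x⁻¹).toMonoidHom = G.comap (MulAut.conj x).toMonoidHom := by
      rw [map_inv]
      exact Subgroup.map_equiv_eq_comap_symm (MulAut.conj x)⁻¹ G
    rw [h1]
    exact hIn

/-- Dickson's theorem, case of `q₀ + 1` Sylow `p`-subgroups of order `q₀`. -/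
theorem partC_final [Fintype F] (p : ℕ) [Fact p.Prime] [CharP F p]
    (H : Subgroup (ProjectiveSpecialLinearGroup (Fin 2) F))
    (G : Subgroup (SpecialLinearGroup (Fin 2) F))
    (hH : ∀ g : SpecialLinearGroup (Fin 2) F, g ∈ G ↔
      (QuotientGroup.mk g : ProjectiveSpecialLinearGroup (Fin 2) F) ∈ H)
    (q₀ : ℕ) (hq : ∀ P : Sylow p G, Nat.card P = q₀) (hn : Nat.card (Sylow p G) = q₀ + 1) :
    ∃ (K : Type) (_ : Field K) (_ : Fintype K) (m : ℕ), Fintype.card K ^ m = Fintype.card F ∧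
      Fintype.card K = q₀ ∧
      (Nonempty (H ≃* ProjectiveSpecialLinearGroup (Fin 2) K) ∨
        Nonempty (H ≃* ProjGenLinGroup (Fin 2) K)) := by
  obtain ⟨K, D, hK, hIn⟩ := partC p G q₀ hq hn
  have e : Shrink.{0} K ≃+* K := Shrink.ringEquiv.{0} K
  have : Fintype (Shrink.{0} K) := Fintype.ofFinite _
  have hcard : Fintype.card (Shrink.{0} K) = Nat.card K := by
    rw [← Nat.card_eq_fintype_card]
    exact Nat.card_congr e.toEquiv
  refine ⟨Shrink.{0} K, inferInstance, inferInstance, Module.finrank K F, ?_, ?_, ?_⟩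
  · rw [hcard, ← Module.natCard_eq_pow_finrank, Nat.card_eq_fintype_card]
  · rw [hcard, hK]
  · rcases hIn.equiv H hH with ⟨⟨f⟩⟩ | ⟨⟨f⟩⟩
    · left
      exact ⟨f.trans (Cfsg.Agent.Lib.Helper6.pslEquiv e.symm)⟩
    · right
      exact ⟨f.trans (pglEquiv e.symm)⟩

end Cfsg.Agent.Lib.Helper18.SL2
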